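import Cfsg.Agent.LargeSub.PMinimalLayer
import Cfsg.Prelude.Def_BaumannBlocks
import Cfsg.Prelude.Def_Amalgam

/-!
Isolated `p`-minimal subgroups: a normal subgroup either contains `O^p(P)` or lies in `L`, and then
it is centralized modulo `O_p(G)` by `O_p(L)` and by `O^p(P)`.
-/

set_option autoImplicit false

namespace Cfsg.Agent.LocalEvenD.Isolated

open Subgroup Cfsg LargeSub
open scoped commutatorElement

variable {G : Type*} [Group G] [Finite G] {p : ℕ} [hp : Fact p.Prime]

/-- `P` is an isolated `p`-minimal subgroup containing `S`, with companion `L`. -/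
structure Isol (p : ℕ) (S : Sylow p G) (P L : Subgroup G) : Prop where
  le : (S : Subgroup G) ≤ P
  pmin : IsPMinimal p ↥P
  eq : L = normalizer ((S : Subgroup G) : Set G) ⊔ ⨆ P' : {P' : Subgroup G //
    (S : Subgroup G) ≤ P' ∧ IsPMinimal p ↥P' ∧ P' ≠ P}, (P' : Subgroup G)
  iso : ¬ pCoreOf p L ≤ pCoreOf p P

variable {S : Sylow p G} {P L : Subgroup G} (h : Isol p S P L)

/-- Subgroups above `S` are generated by the normalizer of `S` and `p`-minimal subgroups. -/
theorem le_of_pMinimal_le {X H : Subgroup G} (hX : normalizer ((S : Subgroup G) : Set G) ≤ X)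
    (hSH : (S : Subgroup G) ≤ H)
    (hmin : ∀ P' ≤ H, (S : Subgroup G) ≤ P' → IsPMinimal p ↥P' → P' ≤ X) : H ≤ X := by
  induction H using WellFoundedLT.induction with
  | ind H ih =>
    by_cases hn : ((S.subtype hSH : Sylow p ↥H) : Subgroup ↥H).Normal
    · refine le_trans (fun x hx => ?_) hX
      refine mem_normalizer_of_conj_le ?_
      rintro _ ⟨s, hs, rfl⟩
      exact mem_subgroupOf.1 (hn.conj_mem ⟨s, hSH hs⟩ (mem_subgroupOf.2 hs) ⟨x, hx⟩)
    set S' := S.subtype hSH with hS'
    obtain ⟨M, hM, hSM⟩ : ∃ M : Subgroup ↥H, IsCoatom M ∧ (S' : Subgroup ↥H) ≤ M := by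
      rcases eq_top_or_exists_le_coatom (S' : Subgroup ↥H) with he | hM
      · exact absurd (by rw [he]; infer_instance) hn
      · exact hM
    by_cases huniq : ∀ M' : Subgroup ↥H, IsCoatom M' → (S' : Subgroup ↥H) ≤ M' → M' = M
    · exact hmin H le_rfl hSH (LargeSub.isPMinimal_of_pMin (S := S') (M := M) ⟨hn, hM, hSM, huniq⟩)
    · push Not at huniq
      obtain ⟨M', hM', hSM', hne⟩ := huniq
      have hsub : ∀ N : Subgroup ↥H, IsCoatom N → (S' : Subgroup ↥H) ≤ N → N.map H.subtype ≤ X := by
        intro N hN hSN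
        have hlt : N.map H.subtype < H := by
          refine lt_of_le_of_ne (map_subtype_le N) fun he => hN.1 (map_injective H.subtype_injective ?_)
          rw [he, ← MonoidHom.range_eq_map, range_subtype]
        exact ih _ hlt (fun s hs => ⟨⟨s, hSH hs⟩, hSN (mem_subgroupOf.2 hs), rfl⟩)
          fun P' hP' => hmin P' (hP'.trans hlt.le)
      have htop : M' ⊔ M = ⊤ := hM'.2 _ (lt_of_le_of_ne le_sup_left fun he => by
        rcases eq_or_lt_of_le (he ▸ le_sup_right : M ≤ M') with h1 | h1
        · exact hne h1.symm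
        · exact hM'.1 (hM.2 _ h1))
      calc H = (M' ⊔ M).map H.subtype := by
            rw [htop, ← MonoidHom.range_eq_map, range_subtype]
        _ ≤ X := by rw [Subgroup.map_sup]; exact sup_le (hsub M' hM' hSM') (hsub M hM hSM)

include h

theorem sylow_le_L : (S : Subgroup G) ≤ L := h.eq ▸ (le_normalizer.trans le_sup_left)

theorem normalizer_le_L : normalizer ((S : Subgroup G) : Set G) ≤ L := h.eq ▸ le_sup_left

theorem pMinimal_le_L {P' : Subgroup G} (hS : (S : Subgroup G) ≤ P') (hm : IsPMinimal p ↥P')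
    (hne : P' ≠ P) : P' ≤ L := by
  rw [h.eq]
  exact le_sup_of_le_right (le_iSup (fun P' : {P' : Subgroup G //
    (S : Subgroup G) ≤ P' ∧ IsPMinimal p ↥P' ∧ P' ≠ P} => (P' : Subgroup G)) ⟨P', hS, hm, hne⟩)

/-- A subgroup above `S` not containing `P` lies in `L`. -/
theorem le_L_of_not_le {H : Subgroup G} (hSH : (S : Subgroup G) ≤ H) (hPH : ¬ P ≤ H) : H ≤ L :=
  le_of_pMinimal_le (normalizer_le_L h) hSH fun _ hle hS hm =>
    pMinimal_le_L h hS hm fun he => hPH (he ▸ hle)

theorem sup_L_eq_top : P ⊔ L = ⊤ := by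
  classical
  refine top_le_iff.1 (le_of_pMinimal_le ((normalizer_le_L h).trans le_sup_right) le_top
    fun P' _ hS hm => ?_)
  by_cases he : P' = P
  · exact he.le.trans le_sup_left
  · exact (pMinimal_le_L h hS hm he).trans le_sup_right

theorem residual_le : pResidualOf p P ≤ P := map_subtype_le _

theorem mem_residual {x : G} (hx : x ∈ P) (hc : (orderOf x).Coprime p) : x ∈ pResidualOf p P :=
  ⟨⟨x, hx⟩, Transfer.mem_pResidual_of_coprime (by rwa [orderOf_mk]), rfl⟩

theorem residual_le_iff {X : Subgroup G} :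
    pResidualOf p P ≤ X ↔ ∀ x ∈ P, (orderOf x).Coprime p → x ∈ X := by
  refine ⟨fun hle x hx hc => hle (mem_residual h hx hc), fun hX => map_le_iff_le_comap.2 ?_⟩
  exact Transfer.pResidual_le_iff.2 fun g hg => hX g g.2 (by rwa [← Subgroup.orderOf_coe] at hg)

theorem residual_sup : (S : Subgroup G) ⊔ pResidualOf p P = P := by
  conv_rhs => rw [← range_subtype P, MonoidHom.range_eq_map,
    ← Transfer.sylow_sup_pResidual_eq_top (S.subtype h.le), Subgroup.map_sup]
  congr 1
  rw [Sylow.coe_subtype, subgroupOf_map_subtype, inf_eq_left.2 h.le]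

theorem le_normalizer_residual : P ≤ normalizer (pResidualOf p P : Set G) :=
  LargeSub.le_normalizer_map_subtype _

/-- The dichotomy for normal subgroups. -/
theorem residual_le_or_le_L (N : Subgroup G) [N.Normal] : pResidualOf p P ≤ N ∨ N ≤ L := by
  by_cases hP : P ≤ N ⊔ S
  swap
  · exact Or.inr (le_sup_left.trans (le_L_of_not_le h le_sup_right hP))
  refine Or.inl ((residual_le_iff h).2 fun x hx hc => ?_)
  have hx' : QuotientGroup.mk' N x ∈ (S : Subgroup G).map (QuotientGroup.mk' N) := by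
    have := mem_map_of_mem (QuotientGroup.mk' N) (hP hx)
    rwa [Subgroup.map_sup, QuotientGroup.map_mk'_self, bot_sup_eq] at this
  obtain ⟨k, hk⟩ := (S.isPGroup'.map (QuotientGroup.mk' N)) ⟨_, hx'⟩
  have h1 : orderOf (QuotientGroup.mk' N x) = 1 :=
    Nat.eq_one_of_dvd_coprimes (hc.pow_right k) (orderOf_map_dvd _ x)
      (orderOf_dvd_of_pow_eq_one (congrArg Subtype.val hk))
  exact (QuotientGroup.eq_one_iff x).1 (orderOf_eq_one_iff.1 h1)

theorem core_le_sylow : pCoreOf p L ≤ (S : Subgroup G) := by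
  have h1 := Thompson.pCore_le_sylow (S.subtype (sylow_le_L h))
  intro x hx
  obtain ⟨y, hy, rfl⟩ := hx
  exact mem_subgroupOf.1 (h1 hy)

/-- `O^p(P)` is not centralized by `O_p(L)` modulo `O_p(G)`. -/
theorem not_commutator_residual_core_le :
    ¬ ⁅pResidualOf p P, pCoreOf p L⁆ ≤ pCore p G := by
  intro hle
  set Q := pCoreOf p L
  set O := pCore p G
  have hQS := core_le_sylow h
  have hOS : O ≤ (S : Subgroup G) := Thompson.pCore_le_sylow S
  have hK : pResidualOf p P ≤ normalizer ((Q ⊔ O : Subgroup G) : Set G) := fun k hk => by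
    refine mem_normalizer_of_conj_le (map_le_iff_le_comap.2 (sup_le (fun q hq => ?_) fun o ho => ?_))
    · show k * q * k⁻¹ ∈ Q ⊔ O
      rw [show k * q * k⁻¹ = ⁅k, q⁆ * q by simp only [commutatorElement_def]; group]
      exact mul_mem (mem_sup_right (hle (commutator_mem_commutator hk hq))) (mem_sup_left hq)
    · exact mem_sup_right ((inferInstance : O.Normal).conj_mem o ho k)
  have hS : (S : Subgroup G) ≤ normalizer ((Q ⊔ O : Subgroup G) : Set G) :=
    le_normalizer_sup ((sylow_le_L h).trans (le_normalizer_pCoreOf p L))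
      (by rw [normalizer_eq_top (H := O)]; exact le_top)
  refine h.iso (le_sup_left.trans (LargeSub.le_pCoreOf (sup_le (hQS.trans h.le) (hOS.trans h.le)) ?_
    (S.isPGroup'.to_le (sup_le hQS hOS))))
  exact (residual_sup h).ge.trans (sup_le hS hK)

/-- A normal subgroup not containing `O^p(P)` is centralized by `O_p(L)` modulo `O_p(G)`. -/
theorem commutator_core_le {N : Subgroup G} [N.Normal] (hN : ¬ pResidualOf p P ≤ N) :
    ⁅N, pCoreOf p L⁆ ≤ pCore p G := by
  have hNL := (residual_le_or_le_L h N).resolve_left hN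
  refine le_trans (le_inf (commutator_le_left N _)
    (LargeSub.commutator_le_of_le_normalizer (hNL.trans (le_normalizer_pCoreOf p L)))) ?_
  have hle : N ⊓ pCoreOf p L ≤ pCoreOf p N := LargeSub.le_pCoreOf inf_le_left
    (le_normalizer_inf le_normalizer (hNL.trans (le_normalizer_pCoreOf p L)))
    ((isPGroup_pCoreOf L).to_le inf_le_right)
  exact hle.trans (Thompson.map_pCore_normal_le N)

/-- A normal subgroup not containing `O^p(P)` is centralized by `O^p(P)` modulo `O_p(G)`. -/
theorem commutator_residual_le {N : Subgroup G} [N.Normal] (hN : ¬ pResidualOf p P ≤ N) :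
    ⁅N, pResidualOf p P⁆ ≤ pCore p G := by
  set π := QuotientGroup.mk' (pCore p G) with hπ
  haveI : (N.map π).Normal := Normal.map inferInstance _ (QuotientGroup.mk'_surjective _)
  haveI : (centralizer ((N.map π : Subgroup (G ⧸ pCore p G)) : Set (G ⧸ pCore p G))).Normal :=
    normal_centralizer
  set C := (centralizer ((N.map π : Subgroup (G ⧸ pCore p G)) : Set (G ⧸ pCore p G))).comap π with hC
  haveI : C.Normal := (inferInstance : (centralizer _).Normal).comap π
  have hiff : ∀ X : Subgroup G, X ≤ C ↔ ⁅N, X⁆ ≤ pCore p G := fun X => by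
    rw [hC, ← map_le_iff_le_comap, Subgroup.le_centralizer_iff, ← commutator_eq_bot_iff_le_centralizer,
      ← Subgroup.map_commutator, Subgroup.map_eq_bot_iff, QuotientGroup.ker_mk']
  rw [← hiff]
  have hQC : pCoreOf p L ≤ C := (hiff _).2 (commutator_core_le h hN)
  obtain ⟨-, M, hM, -⟩ := h.pmin (S.subtype h.le)
  have hPM : PMin p (S.subtype h.le) M := PMin.of_isPMinimal h.pmin _ M hM.1 hM.2
  rcases hPM.residual_le_or_le_core (N := C.subgroupOf P) with h1 | h1
  · exact map_le_iff_le_comap.2 h1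
  · refine absurd ?_ h.iso
    intro q hq
    have hqS := core_le_sylow h hq
    exact ⟨⟨q, h.le hqS⟩, hPM.normal_inf_sylow_le (h1.trans M.normalCore_le)
      ⟨mem_subgroupOf.2 (hQC hq), mem_subgroupOf.2 hqS⟩, rfl⟩

end Cfsg.Agent.LocalEvenD.Isolated
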