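import Cfsg.Agent.LocalEvenD.Isolated.Solvable
import Cfsg.Agent.Lib.Components.PermuteComponents
import Cfsg.Agent.Kazarin19.Main

/-!
If the image of `Y` modulo `O_p(G)` is perfect then it is a product of components permuted
transitively by `S`, and its order is divisible by `p`.
-/

set_option autoImplicit false
set_option linter.style.haveILetI false

namespace Cfsg.Agent.LocalEvenD.Isolated

open Subgroup Cfsg LargeSub
open scoped commutatorElement

universe u

variable {G : Type u} [Group G] [Finite G] {p : ℕ} [hp : Fact p.Prime]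
  {S : Sylow p G} {P L : Subgroup G} (h : Isol p S P L) {Y : Subgroup G}
  (hY : Y = normalClosure (pResidualOf p P : Set G))

local notation "π" => QuotientGroup.mk' (pCore p G)

include h hY

variable (hpf : ⁅Y.map (QuotientGroup.mk' (pCore p G)), Y.map (QuotientGroup.mk' (pCore p G))⁆ =
  Y.map (QuotientGroup.mk' (pCore p G)))

include hpf

theorem not_map_Y_le_centralizer_self :
    ¬ Y.map π ≤ centralizer (Y.map π : Set (G ⧸ pCore p G)) := fun hle =>
  map_Y_ne_bot h hY (hpf.symm.trans (commutator_eq_bot_iff_le_centralizer.2 hle))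

theorem map_Y_le_layer : Y.map π ≤ layer (G ⧸ pCore p G) := by
  rcases quotient_dichotomy h hY (layer (G ⧸ pCore p G)) with hle | ⟨hE, -⟩
  · exact hle
  exfalso
  haveI := normal_map_Y hY
  rcases quotient_dichotomy h hY (fittingSubgroup (G ⧸ pCore p G)) with hle | ⟨hF, -⟩
  · have hnil : Group.IsNilpotent ↥(Y.map π) :=
      haveI := Fitting.fitting_isNilpotent (G := G ⧸ pCore p G)
      Group.nilpotent_of_mulEquiv (subgroupOfEquivOfLe hle)
    haveI : Group.IsPerfect ↥(Y.map π) := Subgroup.isPerfect_iff.2 hpf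
    haveI := (Subgroup.nontrivial_iff_ne_bot _).2 (map_Y_ne_bot h hY)
    exact Group.IsPerfect.not_isSolvable ↥(Y.map π) (Kazarin19.isSolvable_of_isNilpotent hnil)
  · refine not_map_Y_le_centralizer_self h hY hpf ?_
    rw [Subgroup.le_centralizer_iff]
    exact (map_Y_le_generalizedFitting h hY).trans (sup_le (commutator_eq_bot_iff_le_centralizer.1 hE)
      (commutator_eq_bot_iff_le_centralizer.1 hF))

/-- The components in the image of `Y` generate it. -/
theorem map_Y_le_sSup_components :
    Y.map π ≤ sSup {C : Subgroup (G ⧸ pCore p G) | IsComponent C ∧ C ≤ Y.map π} := by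
  haveI := normal_map_Y hY
  set U := sSup {C : Subgroup (G ⧸ pCore p G) | IsComponent C ∧ C ≤ Y.map π} with hU
  haveI : U.Normal := by
    refine ⟨fun x hx g => ?_⟩
    have hle : U ≤ U.comap (MulAut.conj g).toMonoidHom := sSup_le fun C hC =>
      map_le_iff_le_comap.1 (le_sSup ⟨Components.component_map_conj g hC.1,
        map_le_iff_le_comap.2 fun y hy => (inferInstance : (Y.map π).Normal).conj_mem y (hC.2 hy) g⟩)
    exact hle hx
  rcases quotient_dichotomy h hY U with hle | ⟨hc, -⟩
  · exact hle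
  exfalso
  refine not_map_Y_le_centralizer_self h hY hpf ?_
  refine (map_Y_le_layer h hY hpf).trans (Components.layer_le_iff.2 fun C hC => ?_)
  rcases Components.component_le_or_commutator_eq_bot hC (inferInstance : (Y.map π).Normal).isSubnormal
    with hle | hbot
  · exact (le_sSup ⟨hC, hle⟩ : C ≤ U).trans (commutator_eq_bot_iff_le_centralizer.1 hc)
  · exact commutator_eq_bot_iff_le_centralizer.1 hbot

theorem commutator_component_ne_bot {C : Subgroup (G ⧸ pCore p G)} (hC : IsComponent C)
    (hCY : C ≤ Y.map π) : ⁅C, (pCoreOf p L).map π⁆ ≠ ⊥ := by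
  intro hbot
  haveI := normal_map_Y hY
  set T := {C : Subgroup (G ⧸ pCore p G) | IsComponent C ∧ C ≤ Y.map π ∧
    ⁅C, (pCoreOf p L).map π⁆ = ⊥}
  have hnorm : Y.map π ⊔ L.map π ≤ normalizer ((sSup T : Subgroup (G ⧸ pCore p G)) : Set (G ⧸ pCore p G)) := by
    refine sup_le (fun y hy => ?_) fun l hl => ?_
    · refine mem_normalizer_of_conj_le (map_le_iff_le_comap.2 (sSup_le fun D hD =>
        map_le_iff_le_comap.1 (le_of_eq_of_le ?_ (le_sSup hD))))
      exact Components.map_conj_eq_iff_mem_normalizer.2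
        (Components.layer_le_normalizer hD.1 (map_Y_le_layer h hY hpf hy))
    · refine mem_normalizer_of_conj_le (map_le_iff_le_comap.2 (sSup_le fun D hD =>
        map_le_iff_le_comap.1 (le_sSup ⟨Components.component_map_conj l hD.1,
          map_le_iff_le_comap.2 fun y hy =>
            (inferInstance : (Y.map π).Normal).conj_mem y (hD.2.1 hy) l, ?_⟩)))
      rw [← conj_eq_of_mem_normalizer (map_L_le_normalizer_map_core h hl), ← Subgroup.map_commutator,
        hD.2.2, Subgroup.map_bot]
  rw [map_Y_sup_map_L h hY, top_le_iff, normalizer_eq_top_iff] at hnorm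
  have hTQ : ⁅sSup T, (pCoreOf p L).map π⁆ = ⊥ := commutator_eq_bot_iff_le_centralizer.2
    (sSup_le fun D hD => commutator_eq_bot_iff_le_centralizer.1 hD.2.2)
  rcases quotient_dichotomy h hY (sSup T) with hle | ⟨hc, -⟩
  · exact not_map_Y_commute h hY (le_bot_iff.1 ((commutator_mono hle le_rfl).trans hTQ.le))
  · have hCc : C ≤ centralizer (C : Set (G ⧸ pCore p G)) :=
      ((le_sSup ⟨hC, hCY, hbot⟩ : C ≤ sSup T).trans (commutator_eq_bot_iff_le_centralizer.1 hc)).trans
        (centralizer_le hCY)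
    exact Components.component_ne_bot hC
      ((Components.component_commutator_eq_self hC).symm.trans
        (commutator_eq_bot_iff_le_centralizer.2 hCc))

/-- The product of an orbit of `S` on the components contains the image of `O^p(P)`. -/
theorem residual_le_orbitJoin {C : Subgroup (G ⧸ pCore p G)} (hC : IsComponent C)
    (hCY : C ≤ Y.map π) :
    (pResidualOf p P).map π ≤ Components.orbitJoin ((S : Subgroup G).map π) C := by
  haveI := normal_map_Y hY
  set X := Components.orbitJoin ((S : Subgroup G).map π) C with hX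
  have hXn : (S : Subgroup G).map π ≤ normalizer (X : Set (G ⧸ pCore p G)) := fun s hs => by
    refine mem_normalizer_of_conj_eq ?_
    rw [hX, Components.map_conj_orbitJoin (le_normalizer hs)]
    show sSup _ = sSup _
    rw [Components.orbitSet_eq_of_mem ⟨s, hs, rfl⟩]
  rcases invariant_dichotomy h X hXn with hK | ⟨hXL, hc⟩
  · exact hK
  exfalso
  refine commutator_component_ne_bot h hY hpf hC hCY (le_bot_iff.1
    (((commutator_mono (Components.le_orbitJoin _ C) le_rfl).trans hc).trans ?_))
  have hXY : X ≤ Y.map π := sSup_le fun D ⟨s, _, hD⟩ => hD ▸ map_le_iff_le_comap.2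
    fun y hy => (inferInstance : (Y.map π).Normal).conj_mem y (hCY hy) s
  haveI : (X.subgroupOf (Y.map π)).Normal := Subgroup.normal_subgroupOf_of_le_normalizer
    ((map_Y_le_layer h hY hpf).trans (Components.layer_le_normalizer_orbitJoin hC))
  have hsn : X.IsSubnormal := by
    have := (inferInstance : (X.subgroupOf (Y.map π)).Normal).isSubnormal.trans'
      (inferInstance : (Y.map π).Normal).isSubnormal
    rwa [subgroupOf_map_subtype, inf_eq_left.2 hXY] at this
  calc X ⊓ (pCoreOf p L).map π ≤ pCoreOf p X := le_pCoreOf inf_le_left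
        (le_normalizer_inf le_normalizer (hXL.trans (map_L_le_normalizer_map_core h)))
        (((isPGroup_pCoreOf (p := p) L).map π).to_le inf_le_right)
    _ ≤ pCore p (G ⧸ pCore p G) := Thompson.map_pCore_isSubnormal_le hsn
    _ = ⊥ := Thompson.pCore_quotient_pCore

/-- `S` is transitive on the components in the image of `Y`. -/
theorem mem_orbitSet {C₁ C₂ : Subgroup (G ⧸ pCore p G)} (h1 : IsComponent C₁) (h1Y : C₁ ≤ Y.map π)
    (h2 : IsComponent C₂) (h2Y : C₂ ≤ Y.map π) :
    C₂ ∈ Components.orbitSet ((S : Subgroup G).map π) C₁ := by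
  by_contra hmem
  haveI := normal_map_Y hY
  set S' := (S : Subgroup G).map π
  haveI : (centralizer (Y.map π : Set (G ⧸ pCore p G))).Normal := normal_centralizer
  refine not_map_Y_le_centralizer_self h hY hpf (map_Y_le_of_residual_le hY _ ?_)
  rw [Subgroup.le_centralizer_iff]
  refine (map_Y_le_sSup_components h hY hpf).trans (sSup_le fun C hC => ?_)
  rw [Subgroup.le_centralizer_iff]
  by_cases hCo : C ∈ Components.orbitSet S' C₁
  · exact (residual_le_orbitJoin h hY hpf h2 h2Y).trans
      ((Components.orbitJoin_le_centralizer_of_notMem h1 h2 hmem).trans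
        (centralizer_le (le_sSup hCo : C ≤ Components.orbitJoin S' C₁)))
  · refine (residual_le_orbitJoin h hY hpf h1 h1Y).trans
      (Subgroup.le_centralizer_iff.1 ((Components.le_orbitJoin S' C).trans
        (Components.orbitJoin_le_centralizer_of_notMem h1 hC.1 hCo)))

/-- The order of the image of `Y` is divisible by `p` (Kazarin's theorem). -/
theorem dvd_card_map_Y : p ∣ Nat.card ↥(Y.map π) := by
  by_contra hnd
  haveI := normal_map_Y hY
  set Yb := Y.map π with hYb
  set Q := (pCoreOf p L).map π with hQ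
  set S' := (S : Subgroup G).map π with hS'
  have hS'p : IsPGroup p ↥S' := S.isPGroup'.map π
  have hcop : (Nat.card S').Coprime (Nat.card Yb) := by
    obtain ⟨k, hk⟩ := IsPGroup.iff_card.1 hS'p
    rw [hk]
    exact (hp.out.coprime_iff_not_dvd.2 hnd).pow_left k
  have hS'Y : S' ≤ normalizer (Yb : Set (G ⧸ pCore p G)) := by
    rw [normalizer_eq_top (H := Yb)]; exact le_top
  haveI : Group.IsNilpotent ↥S' := hS'p.isNilpotent
  set C := centralizer (Q : Set (G ⧸ pCore p G)) with hC
  have key : ∀ r : ℕ, r.Prime → r ∣ C.relIndex Yb →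
      ∃ R : Subgroup (G ⧸ pCore p G), IsPGroup r R ∧ (pResidualOf p P).map π ≤ R := by
    intro r hr hrdvd
    haveI := Fact.mk hr
    obtain ⟨R, hR⟩ := Coprime.exists_invariant_sylow S' Yb hS'Y hcop
      (Or.inl (Kazarin19.isSolvable_of_isNilpotent inferInstance)) r
    refine ⟨_, R.isPGroup'.map Yb.subtype, ?_⟩
    rcases invariant_dichotomy h _ hR with hK | ⟨-, hc⟩
    · exact hK
    exfalso
    have hbot : (R : Subgroup ↥Yb).map Yb.subtype ⊓ Q = ⊥ := by
      rw [← disjoint_iff]
      refine IsPGroup.disjoint_of_ne _ _ (fun he => hnd ?_) _ _ (R.isPGroup'.map Yb.subtype)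
        ((isPGroup_pCoreOf (p := p) L).map π)
      subst he
      exact hrdvd.trans (relIndex_dvd_card _ _)
    have hRC : (R : Subgroup ↥Yb) ≤ C.subgroupOf Yb := fun x hx => mem_subgroupOf.2
      (commutator_eq_bot_iff_le_centralizer.1 (le_bot_iff.1 (hc.trans hbot.le)) ⟨x, hx, rfl⟩)
    exact R.not_dvd_index (hrdvd.trans (index_dvd_of_le hRC))
  have huniq : ∀ r s : ℕ, r.Prime → s.Prime → r ∣ C.relIndex Yb → s ∣ C.relIndex Yb → r = s := by
    intro r s hr hs hrd hsd
    by_contra hne
    obtain ⟨R, hR, hKR⟩ := key r hr hrd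
    obtain ⟨T, hT, hKT⟩ := key s hs hsd
    haveI := Fact.mk hr
    haveI := Fact.mk hs
    refine not_map_residual_commute h hY ?_
    rw [le_bot_iff.1 ((le_inf hKR hKT).trans (IsPGroup.disjoint_of_ne _ _ hne _ _ hR hT).eq_bot.le),
      commutator_bot_left]
  obtain ⟨r, hr, hru⟩ : ∃ r : ℕ, r.Prime ∧ ∀ s : ℕ, s.Prime → s ∣ C.relIndex Yb → s = r := by
    by_cases hex : ∃ r : ℕ, r.Prime ∧ r ∣ C.relIndex Yb
    · obtain ⟨r, hr, hrd⟩ := hex
      exact ⟨r, hr, fun s hs hsd => huniq s r hs hr hsd hrd⟩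
    · exact ⟨2, Nat.prime_two, fun s hs hsd => absurd ⟨s, hs, hsd⟩ hex⟩
  refine not_map_Y_commute h hY (commutator_eq_bot_iff_le_centralizer.2
    (Subgroup.le_centralizer_iff.2 fun q hq => ?_))
  set H := Yb ⊔ zpowers q with hH
  have hqH : q ∈ H := mem_sup_right (mem_zpowers q)
  set D := centralizer ({q} : Set (G ⧸ pCore p G)) with hD
  have hqD : zpowers q ≤ D ⊓ H := le_inf (zpowers_le.2 (mem_centralizer_singleton_iff.2 rfl))
    (zpowers_le.2 hqH)
  have hidx : (centralizer ({(⟨q, hqH⟩ : ↥H)} : Set ↥H)).index = (D ⊓ H).relIndex H := by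
    rw [inf_relIndex_right]
    congr 1
    ext x
    rw [mem_centralizer_singleton_iff, mem_subgroupOf, hD, mem_centralizer_singleton_iff, Subtype.ext_iff,
      coe_mul, coe_mul]
  have hsupH : (D ⊓ H) ⊔ Yb = H := le_antisymm (sup_le inf_le_right le_sup_left)
    (sup_le le_sup_right (hqD.trans le_sup_left))
  have hdvd : (D ⊓ H).relIndex H ∣ C.relIndex Yb := by
    have h1 := relIndex_mul_relIndex (D ⊓ H ⊓ Yb) Yb H inf_le_right le_sup_left
    have h2 := relIndex_mul_relIndex (D ⊓ H ⊓ Yb) (D ⊓ H) H inf_le_left inf_le_right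
    have h3 : Yb.relIndex H = (D ⊓ H ⊓ Yb).relIndex (D ⊓ H) := by
      rw [inf_comm (D ⊓ H) Yb, inf_relIndex_right]
      conv_lhs => rw [← hsupH]
      rw [relIndex_sup_right]
    have hpos : (D ⊓ H ⊓ Yb).relIndex (D ⊓ H) ≠ 0 := by
      rw [relIndex]; exact index_ne_zero_of_finite
    have h4 : (D ⊓ H).relIndex H = (D ⊓ H ⊓ Yb).relIndex Yb :=
      mul_left_cancel₀ hpos (by rw [h2, ← h1, h3, mul_comm])
    rw [h4, inf_relIndex_right]
    refine relIndex_dvd_of_le_left _ (fun x hx => ?_) |>.trans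
      (dvd_of_eq (inf_relIndex_right C Yb))
    exact ⟨mem_centralizer_singleton_iff.2 (mem_centralizer_iff.1 hx.1 q hq).symm,
      mem_sup_left hx.2⟩
  have hne0 : (D ⊓ H).relIndex H ≠ 0 := by rw [relIndex]; exact index_ne_zero_of_finite
  have hsol := Kazarin19.isSolvable_normalClosure (⟨q, hqH⟩ : ↥H) hr
    (a := ((D ⊓ H).relIndex H).primeFactorsList.length) (hidx.trans
      (Nat.eq_prime_pow_of_unique_prime_dvd hne0 fun hd hdd => hru _ hd (hdd.trans hdvd)))
  set N := (normalClosure ({(⟨q, hqH⟩ : ↥H)} : Set ↥H)).map H.subtype with hN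
  have hNn : H ≤ normalizer (N : Set (G ⧸ pCore p G)) := LargeSub.le_normalizer_map_subtype _
  have hqN : q ∈ N := ⟨⟨q, hqH⟩, subset_normalClosure rfl, rfl⟩
  have hNsol : Group.IsSolvable ↥N := Group.isSolvable_of_surjective
    (H.subtype.subgroupMap_surjective _)
  have hM : Group.IsSolvable ↥(N ⊓ Yb) := Coprime.solvable_of_le inf_le_left hNsol
  have hMn : Yb ≤ normalizer ((N ⊓ Yb : Subgroup (G ⧸ pCore p G)) : Set (G ⧸ pCore p G)) :=
    le_normalizer_inf (le_sup_left.trans hNn) le_normalizer
  have hYM : Yb ≤ centralizer ((N ⊓ Yb : Subgroup (G ⧸ pCore p G)) : Set (G ⧸ pCore p G)) :=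
    (map_Y_le_sSup_components h hY hpf).trans (sSup_le fun C hC => commutator_eq_bot_iff_le_centralizer.1
      (Components.component_commutator_solvable hC.1 hM (hC.2.trans hMn)))
  refine Components.mem_centralizer_of_commutator_mem_centralizer hpf
    (by rw [normalizer_eq_top (H := Yb)]; exact mem_top q) fun l hl => ?_
  exact Subgroup.le_centralizer_iff.1 hYM (Subgroup.mem_inf.2 ⟨show q * l * q⁻¹ * l⁻¹ ∈ N by
      rw [show q * l * q⁻¹ * l⁻¹ = q * (l * q⁻¹ * l⁻¹) by group]
      exact mul_mem hqN ((mem_normalizer_iff.1 (hNn (mem_sup_left hl)) q⁻¹).1 (inv_mem hqN)),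
    mul_mem ((inferInstance : Yb.Normal).conj_mem l hl q) (inv_mem hl)⟩)

end Cfsg.Agent.LocalEvenD.Isolated
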