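import Cfsg.Agent.LocalEvenD.Isolated.Basic
import Cfsg.Agent.Lib.Components.GenFitting
import Cfsg.Agent.S1265

/-!
The image of the normal closure of `O^p(P)` modulo `O_p(G)`.
-/

set_option autoImplicit false

namespace Cfsg.Agent.LocalEvenD.Isolated

open Subgroup Cfsg LargeSub
open scoped commutatorElement

variable {G : Type*} [Group G] [Finite G] {p : ℕ} [hp : Fact p.Prime]
  {S : Sylow p G} {P L : Subgroup G} (h : Isol p S P L) {Y : Subgroup G}
  (hY : Y = normalClosure (pResidualOf p P : Set G))

include hY

omit [Finite G] hp in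
theorem normal_Y : Y.Normal := hY ▸ normalClosure_normal

omit [Finite G] hp in
theorem residual_le_Y : pResidualOf p P ≤ Y := hY ▸ le_normalClosure

omit [Finite G] hp in
theorem Y_le_of_residual_le {N : Subgroup G} [N.Normal] (hN : pResidualOf p P ≤ N) : Y ≤ N :=
  hY ▸ normalClosure_le_normal hN

include h

theorem Y_sup_L : Y ⊔ L = ⊤ :=
  top_le_iff.1 ((sup_L_eq_top h).ge.trans (sup_le ((residual_sup h).ge.trans
    (sup_le ((sylow_le_L h).trans le_sup_right) ((residual_le_Y hY).trans le_sup_left))) le_sup_right))

/-- A normal subgroup of the quotient either contains the image of `Y` or is centralized by it and by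
the image of `O_p(L)`. -/
theorem quotient_dichotomy (N : Subgroup (G ⧸ pCore p G)) [N.Normal] :
    Y.map (QuotientGroup.mk' (pCore p G)) ≤ N ∨
      (⁅N, Y.map (QuotientGroup.mk' (pCore p G))⁆ = ⊥ ∧
        ⁅N, (pCoreOf p L).map (QuotientGroup.mk' (pCore p G))⁆ = ⊥) := by
  set π := QuotientGroup.mk' (pCore p G) with hπ
  haveI := normal_Y hY
  haveI : (N.comap π).Normal := (inferInstance : N.Normal).comap π
  have hN : (N.comap π).map π = N := map_comap_eq_self_of_surjective (QuotientGroup.mk'_surjective _) N
  by_cases hK : pResidualOf p P ≤ N.comap π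
  · exact Or.inl (map_le_iff_le_comap.2 (Y_le_of_residual_le hY hK))
  · have hbot : ∀ X : Subgroup G, ⁅N.comap π, X⁆ ≤ pCore p G → ⁅N, X.map π⁆ = ⊥ := fun X hX => by
      conv_lhs => rw [← hN]
      rw [← Subgroup.map_commutator, Subgroup.map_eq_bot_iff, hπ, QuotientGroup.ker_mk']
      exact hX
    refine Or.inr ⟨?_, hbot _ (commutator_core_le h hK)⟩
    haveI : (centralizer (N : Set (G ⧸ pCore p G))).Normal := normal_centralizer
    rw [commutator_eq_bot_iff_le_centralizer, Subgroup.le_centralizer_iff, map_le_iff_le_comap]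
    haveI : ((centralizer (N : Set (G ⧸ pCore p G))).comap π).Normal :=
      (inferInstance : (centralizer _).Normal).comap π
    refine Y_le_of_residual_le hY ?_
    rw [← map_le_iff_le_comap, Subgroup.le_centralizer_iff, ← commutator_eq_bot_iff_le_centralizer]
    exact hbot _ (commutator_residual_le h hK)

/-- The image of `Y` lies in the generalized Fitting subgroup. -/
theorem map_Y_le_generalizedFitting :
    Y.map (QuotientGroup.mk' (pCore p G)) ≤ generalizedFittingSubgroup (G ⧸ pCore p G) := by
  rcases quotient_dichotomy h hY (generalizedFittingSubgroup (G ⧸ pCore p G)) with hle | ⟨hc, -⟩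
  · exact hle
  · rw [commutator_eq_bot_iff_le_centralizer, Subgroup.le_centralizer_iff] at hc
    exact hc.trans S1265.result

theorem not_map_residual_commute :
    ⁅(pResidualOf p P).map (QuotientGroup.mk' (pCore p G)),
      (pCoreOf p L).map (QuotientGroup.mk' (pCore p G))⁆ ≠ ⊥ := by
  rw [← Subgroup.map_commutator, Ne, Subgroup.map_eq_bot_iff, QuotientGroup.ker_mk']
  exact not_commutator_residual_core_le h

theorem not_map_Y_commute :
    ⁅Y.map (QuotientGroup.mk' (pCore p G)), (pCoreOf p L).map (QuotientGroup.mk' (pCore p G))⁆ ≠ ⊥ :=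
  fun he => not_map_residual_commute h hY (le_bot_iff.1 (he ▸
    commutator_mono (map_mono (residual_le_Y hY)) le_rfl))

end Cfsg.Agent.LocalEvenD.Isolated
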