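import Cfsg.Agent.LocalEvenD.Isolated.Quotient
import Cfsg.Agent.FG72.InvariantComplement
import Cfsg.Agent.Lib.PGroup.Basic

/-!
If the image of `Y` modulo `O_p(G)` is not perfect then it is a `t`-group of class at most two, and
`Y = O^p(P)`.
-/

set_option autoImplicit false
set_option linter.style.haveILetI false

namespace Cfsg.Agent.LocalEvenD.Isolated

open Subgroup Cfsg LargeSub
open scoped commutatorElement

variable {G : Type*} [Group G] [Finite G] {p : ℕ} [hp : Fact p.Prime]
  {S : Sylow p G} {P L : Subgroup G} (h : Isol p S P L) {Y : Subgroup G}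
  (hY : Y = normalClosure (pResidualOf p P : Set G))

local notation "π" => QuotientGroup.mk' (pCore p G)

omit [Finite G] hp in
/-- An element of order prime to `p` in a product `X T` with `T` a `p`-group lies in `X`. -/
theorem mem_of_coprime_mem_sup {H : Type*} [Group H] {X T : Subgroup H} (hT : IsPGroup p T)
    (hn : T ≤ normalizer (X : Set H)) {x : H} (hx : x ∈ X ⊔ T) (hc : (orderOf x).Coprime p) :
    x ∈ X := by
  haveI : (X.subgroupOf (X ⊔ T)).Normal :=
    Subgroup.normal_subgroupOf_of_le_normalizer (sup_le le_normalizer hn)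
  set q := QuotientGroup.mk' (X.subgroupOf (X ⊔ T))
  have hsup : X.subgroupOf (X ⊔ T) ⊔ T.subgroupOf (X ⊔ T) = ⊤ := by
    rw [← subgroupOf_sup le_sup_left le_sup_right, subgroupOf_self]
  have hq : q ⟨x, hx⟩ ∈ (T.subgroupOf (X ⊔ T)).map q := by
    have := mem_map_of_mem q (hsup.ge (mem_top ⟨x, hx⟩))
    rwa [Subgroup.map_sup, QuotientGroup.map_mk'_self, bot_sup_eq] at this
  obtain ⟨k, hk⟩ := ((hT.comap_subtype (K := X ⊔ T)).map q) ⟨_, hq⟩
  have hc' : (orderOf (⟨x, hx⟩ : ↥(X ⊔ T))).Coprime p := by rwa [orderOf_mk]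
  have h1 : orderOf (q ⟨x, hx⟩) = 1 := Nat.eq_one_of_dvd_coprimes (hc'.pow_right k)
    (orderOf_map_dvd _ _) (orderOf_dvd_of_pow_eq_one (congrArg Subtype.val hk))
  exact mem_subgroupOf.1 ((QuotientGroup.eq_one_iff _).1 (orderOf_eq_one_iff.1 h1))

omit [Finite G] hp in
theorem le_normalizer_commutator_pair {H : Type*} [Group H] {K A B : Subgroup H}
    (hA : K ≤ normalizer (A : Set H)) (hB : K ≤ normalizer (B : Set H)) :
    K ≤ normalizer ((⁅A, B⁆ : Subgroup H) : Set H) := fun g hg => mem_normalizer_of_conj_eq (by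
  rw [Subgroup.map_commutator, conj_eq_of_mem_normalizer (hA hg), conj_eq_of_mem_normalizer (hB hg)])

include h

theorem map_core_le_map_sylow : (pCoreOf p L).map π ≤ (S : Subgroup G).map π :=
  map_mono (core_le_sylow h)

theorem map_L_le_normalizer_map_core : L.map π ≤ normalizer ((pCoreOf p L).map π : Set (G ⧸ pCore p G)) :=
  (map_mono (le_normalizer_pCoreOf p L)).trans (le_normalizer_map _)

theorem map_sylow_le_normalizer_map_residual :
    (S : Subgroup G).map π ≤ normalizer ((pResidualOf p P).map π : Set (G ⧸ pCore p G)) :=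
  (map_mono (h.le.trans (le_normalizer_residual h))).trans (le_normalizer_map _)

/-- A subgroup of the quotient invariant under `S` either contains the image of `O^p(P)` or lies in
the image of `L`, and then its commutator with the image of `O_p(L)` is small. -/
theorem invariant_dichotomy (X : Subgroup (G ⧸ pCore p G))
    (hX : (S : Subgroup G).map π ≤ normalizer (X : Set (G ⧸ pCore p G))) :
    (pResidualOf p P).map π ≤ X ∨
      (X ≤ L.map π ∧ ⁅X, (pCoreOf p L).map π⁆ ≤ X ⊓ (pCoreOf p L).map π) := by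
  set H := (X ⊔ (S : Subgroup G).map π).comap π with hH
  have hSH : (S : Subgroup G) ≤ H := map_le_iff_le_comap.1 le_sup_right
  by_cases hP : P ≤ H
  · refine Or.inl (map_le_iff_le_comap.2 ((residual_le_iff h).2 fun x hx hc => ?_))
    exact mem_of_coprime_mem_sup (S.isPGroup'.map π) hX (hP hx)
      (hc.coprime_dvd_left (orderOf_map_dvd _ x))
  · have hXL : X ≤ L.map π := by
      refine le_trans ?_ (map_mono (f := π) (le_L_of_not_le h hSH hP))
      rw [hH, map_comap_eq_self_of_surjective (QuotientGroup.mk'_surjective _)]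
      exact le_sup_left
    refine Or.inr ⟨hXL, le_inf ?_ ?_⟩
    · exact commutator_le_left_of_le_normalizer ((map_core_le_map_sylow h).trans hX)
    · exact commutator_le_of_le_normalizer (hXL.trans (map_L_le_normalizer_map_core h))

include hY

theorem map_Y_sup_map_L : Y.map π ⊔ L.map π = ⊤ := by
  rw [← Subgroup.map_sup, Y_sup_L h hY, map_top_of_surjective _ (QuotientGroup.mk'_surjective _)]

theorem map_Y_ne_bot : Y.map π ≠ ⊥ := fun he => not_map_Y_commute h hY (by rw [he, commutator_bot_left])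

omit h in
theorem normal_map_Y : (Y.map π).Normal :=
  haveI := normal_Y hY
  Normal.map inferInstance _ (QuotientGroup.mk'_surjective _)

omit h in
theorem map_Y_le_of_residual_le (N : Subgroup (G ⧸ pCore p G)) [N.Normal]
    (hN : (pResidualOf p P).map π ≤ N) : Y.map π ≤ N := by
  haveI : (N.comap π).Normal := (inferInstance : N.Normal).comap π
  exact map_le_iff_le_comap.2 (Y_le_of_residual_le hY (map_le_iff_le_comap.1 hN))

section NotPerfect

variable (hne : ⁅Y.map (QuotientGroup.mk' (pCore p G)), Y.map (QuotientGroup.mk' (pCore p G))⁆ ≠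
  Y.map (QuotientGroup.mk' (pCore p G)))
include hne

theorem commutator_commutator_map_Y : ⁅⁅Y.map π, Y.map π⁆, Y.map π⁆ = ⊥ := by
  haveI := normal_map_Y hY
  rcases quotient_dichotomy h hY ⁅Y.map π, Y.map π⁆ with hle | ⟨hc, -⟩
  · exact absurd (le_antisymm (commutator_le_left _ _) hle) hne
  · exact hc

theorem lowerCentralSeries_map_Y :
    (⊤ : Subgroup ↥(Y.map π)).lowerCentralSeries 2 = ⊥ := by
  rw [Subgroup.lowerCentralSeries_succ, top_lowerCentralSeries_one, ← (map_injective (Y.map π).subtype_injective).eq_iff,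
    Subgroup.map_commutator, _root_.commutator_def, Subgroup.map_commutator, Subgroup.map_bot,
    ← MonoidHom.range_eq_map, range_subtype]
  exact commutator_commutator_map_Y h hY hne

theorem exists_isPGroup_map_Y : ∃ t : ℕ, t.Prime ∧ t ≠ p ∧ IsPGroup t ↥(Y.map π) := by
  haveI hYn := normal_map_Y hY
  haveI : Group.IsNilpotent ↥(Y.map π) :=
    Subgroup.nilpotent_iff_lowerCentralSeries.2 ⟨2, lowerCentralSeries_map_Y h hY hne⟩
  set C := (centralizer ((pCoreOf p L).map π : Set (G ⧸ pCore p G))).subgroupOf (Y.map π) with hC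
  have hCtop : C ≠ ⊤ := fun he => not_map_Y_commute h hY
    (commutator_eq_bot_iff_le_centralizer.2 fun y hy => mem_subgroupOf.1 (he.ge (mem_top ⟨y, hy⟩)))
  obtain ⟨t, ht, htC⟩ := Nat.exists_prime_and_dvd (mt index_eq_one.1 hCtop)
  haveI := Fact.mk ht
  set T : Sylow t ↥(Y.map π) := default
  haveI hTn : (T : Subgroup ↥(Y.map π)).Normal :=
    (((Group.isNilpotent_of_finite_tfae (G := ↥(Y.map π))).out 0 3 :
      Group.IsNilpotent ↥(Y.map π) ↔ ∀ (q : ℕ) (_ : Fact q.Prime) (R : Sylow q ↥(Y.map π)),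
        (R : Subgroup ↥(Y.map π)).Normal)).1 ‹_› t ‹_› T
  haveI : (T : Subgroup ↥(Y.map π)).Characteristic := T.characteristic_of_normal hTn
  have hTne : (T : Subgroup ↥(Y.map π)).map (Y.map π).subtype ≠ ⊥ := by
    rw [Ne, Subgroup.map_eq_bot_iff_of_injective _ (Y.map π).subtype_injective]
    exact T.ne_bot_of_dvd_card (htC.trans C.index_dvd_card)
  rcases quotient_dichotomy h hY ((T : Subgroup ↥(Y.map π)).map (Y.map π).subtype) with hle | ⟨-, hc⟩
  · have hTY : IsPGroup t ↥(Y.map π) := (T.isPGroup'.map _).to_le hle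
    refine ⟨t, ht, fun he => ?_, hTY⟩
    subst he
    exact map_Y_ne_bot h hY (le_bot_iff.1 ((Thompson.le_pCore hYn hTY).trans
      Thompson.pCore_quotient_pCore.le))
  · exfalso
    have hTC : (T : Subgroup ↥(Y.map π)) ≤ C := fun x hx => mem_subgroupOf.2
      (commutator_eq_bot_iff_le_centralizer.1 hc ⟨x, hx, rfl⟩)
    exact T.not_dvd_index (htC.trans (index_dvd_of_le hTC))

theorem commutator_map_Y_core : ⁅Y.map π, (pCoreOf p L).map π⁆ = Y.map π := by
  haveI := normal_map_Y hY
  set Q := (pCoreOf p L).map π with hQ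
  obtain ⟨t, ht, htp, hYt⟩ := exists_isPGroup_map_Y h hY hne
  haveI := Fact.mk ht
  haveI : ⁅Y.map π, Q⁆.Normal := by
    refine normalizer_eq_top_iff.1 (top_le_iff.1 ((map_Y_sup_map_L h hY).ge.trans (sup_le
      (Coprime.le_normalizer_commutator_left _ _) ?_)))
    exact le_normalizer_commutator_pair (by rw [normalizer_eq_top (H := Y.map π)]; exact le_top)
      (map_L_le_normalizer_map_core h)
  refine le_antisymm (commutator_le_left _ _) ?_
  rcases quotient_dichotomy h hY ⁅Y.map π, Q⁆ with hle | ⟨-, hc⟩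
  · exact hle
  refine absurd (commutator_eq_bot_iff_le_centralizer.2 fun y hy =>
    mem_centralizer_iff.2 fun q hq => ?_) (not_map_Y_commute h hY)
  have hmem : y * q * y⁻¹ * q⁻¹ ∈ ⁅Y.map π, Q⁆ := commutator_mem_commutator hy hq
  have hqc : (orderOf q).Coprime t := by
    obtain ⟨k, hk⟩ := ((isPGroup_pCoreOf (p := p) L).map π) ⟨q, hq⟩
    exact (((Nat.coprime_primes hp.out ht).2 (Ne.symm htp)).pow_left k).coprime_dvd_left
      (orderOf_dvd_of_pow_eq_one (congrArg Subtype.val hk))
  refine (commute_of_commutator_pElement (p := t) hqc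
    (exists_pow_prime_pow_eq_one (hYt.to_le (commutator_le_left _ _)) hmem) ?_).symm
  exact (mem_centralizer_iff.1 (commutator_eq_bot_iff_le_centralizer.1 hc hmem) q hq).symm

theorem map_residual_eq_map_Y : (pResidualOf p P).map π = Y.map π := by
  classical
  haveI := normal_map_Y hY
  have hKY : (pResidualOf p P).map π ≤ Y.map π := map_mono (residual_le_Y hY)
  refine le_antisymm hKY ?_
  obtain ⟨t, ht, htp, hYt⟩ := exists_isPGroup_map_Y h hY hne
  haveI := Fact.mk ht
  set Q := (pCoreOf p L).map π with hQ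
  set K := (pResidualOf p P).map π with hK
  set S' := (S : Subgroup G).map π with hS'
  set Φ := frattini ↥(Y.map π) with hΦ
  let A := ↥(Y.map π) ⧸ Φ
  letI : CommGroup A :=
    { (inferInstance : Group A) with mul_comm := fun a b => PGroup.quotient_frattini_commute hYt a b }
  let f : MulAut ↥(Y.map π) →* MulAut A :=
    { toFun := fun φ => QuotientGroup.congr Φ Φ φ (characteristic_iff_map_eq.1 inferInstance φ)
      map_one' := by
        ext a
        induction a using QuotientGroup.induction_on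
        rfl
      map_mul' := fun φ ψ => by
        ext a
        induction a using QuotientGroup.induction_on
        rfl }
  let Γ : Subgroup (MulAut A) := S'.map (f.comp MulAut.conjNormal)
  have hcop : (Nat.card Γ).Coprime t := by
    obtain ⟨k, hk⟩ := IsPGroup.iff_card.1 ((S.isPGroup'.map π).map (f.comp MulAut.conjNormal))
    rw [hk]
    exact ((Nat.coprime_primes hp.out ht).2 (Ne.symm htp)).pow_left k
  let W : Subgroup A := (K.subgroupOf (Y.map π)).map (QuotientGroup.mk' Φ)
  have hW : FG72.IsInv Γ W := by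
    rintro _ ⟨s, hs, rfl⟩ _ ⟨y, hy, rfl⟩
    exact ⟨MulAut.conjNormal s y, mem_subgroupOf.2 ((mem_normalizer_iff.1
      (map_sylow_le_normalizer_map_residual h hs) y).1 (mem_subgroupOf.1 hy)), rfl⟩
  obtain ⟨E, hE, -, -, hEW, hEtop⟩ := FG72.exists_invariant_complement Γ hcop (FG72.isInv_bot Γ) hW
    (FG72.isInv_top Γ) bot_le le_top fun a _ => mem_bot.2 (PGroup.quotient_frattini_pow hYt a)
  let X' : Subgroup ↥(Y.map π) := E.comap (QuotientGroup.mk' Φ)
  let X := X'.map (Y.map π).subtype
  have hXn : S' ≤ normalizer (X : Set (G ⧸ pCore p G)) := fun s hs => by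
    refine mem_normalizer_of_conj_le ?_
    rintro _ ⟨_, ⟨y, hy, rfl⟩, rfl⟩
    exact ⟨MulAut.conjNormal s y,
      hE (f (MulAut.conjNormal s)) ⟨s, hs, rfl⟩ (QuotientGroup.mk' Φ y) hy, rfl⟩
  rcases invariant_dichotomy h X hXn with hKX | ⟨-, hc⟩
  · exfalso
    have hWE : W ≤ E := by
      rintro _ ⟨y, hy, rfl⟩
      obtain ⟨z, hz, hzy⟩ := hKX (mem_subgroupOf.1 hy)
      rw [← Subtype.ext hzy]
      exact hz
    have hKΦ : K ≤ Φ.map (Y.map π).subtype := fun k hk => by
      refine ⟨⟨k, hKY hk⟩, ?_, rfl⟩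
      have h1 : QuotientGroup.mk' Φ ⟨k, hKY hk⟩ ∈ E ⊓ W :=
        ⟨hWE ⟨_, mem_subgroupOf.2 hk, rfl⟩, ⟨_, mem_subgroupOf.2 hk, rfl⟩⟩
      rw [hEW, mem_bot] at h1
      exact (QuotientGroup.eq_one_iff _).1 h1
    have htop : Φ = ⊤ := top_le_iff.1 fun y _ => by
      obtain ⟨z, hz, hzy⟩ := map_Y_le_of_residual_le hY _ hKΦ y.2
      exact Subtype.ext hzy ▸ hz
    have hbot : (⊥ : Subgroup ↥(Y.map π)) = ⊤ :=
      frattini_nongenerating (by rw [← hΦ, htop, sup_top_eq])
    haveI := (Subgroup.nontrivial_iff_ne_bot _).2 (map_Y_ne_bot h hY)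
    exact bot_ne_top hbot
  · have hXQ : ⁅X, Q⁆ = ⊥ := le_bot_iff.1 (hc.trans (le_of_eq (IsPGroup.disjoint_of_ne _ _ htp _ _
      (hYt.to_le (map_subtype_le X')) ((isPGroup_pCoreOf (p := p) L).map π)).eq_bot))
    conv_lhs => rw [← commutator_map_Y_core h hY hne]
    rw [commutator_le]
    intro y hy q hq
    haveI : E.Normal := ⟨fun a ha g => by rwa [mul_comm g a, mul_inv_cancel_right]⟩
    haveI : X'.Normal := (inferInstance : E.Normal).comap _
    have hsup : K.subgroupOf (Y.map π) ⊔ X' = ⊤ := by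
      apply top_le_iff.1
      intro z _
      obtain ⟨e, he, w, ⟨k, hk, rfl⟩, hew⟩ := mem_sup.1 (hEtop.ge (mem_top (QuotientGroup.mk' Φ z)))
      have : z * k⁻¹ ∈ X' := by
        show QuotientGroup.mk' Φ (z * k⁻¹) ∈ E
        rw [map_mul, ← hew, map_inv, mul_inv_cancel_right]
        exact he
      simpa using mul_mem (mem_sup_right this) (mem_sup_left (S := K.subgroupOf (Y.map π)) (T := X') hk)
    obtain ⟨k, hk, x, hx, hkx⟩ := mem_sup_of_normal_right.1 (hsup.ge (mem_top ⟨y, hy⟩))
    have hxq : ⁅(x : G ⧸ pCore p G), q⁆ = 1 :=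
      mem_bot.1 (hXQ ▸ commutator_mem_commutator ⟨x, hx, rfl⟩ hq)
    have hy' : y = (k : G ⧸ pCore p G) * x := (congrArg Subtype.val hkx).symm
    have : ⁅y, q⁆ = ⁅(k : G ⧸ pCore p G), q⁆ := by
      rw [hy', show ⁅(k : G ⧸ pCore p G) * x, q⁆ = k * ⁅(x : G ⧸ pCore p G), q⁆ * (k : G ⧸ pCore p G)⁻¹ *
        ⁅(k : G ⧸ pCore p G), q⁆ by simp only [commutatorElement_def]; group, hxq, mul_one,
        mul_inv_cancel, one_mul]
    rw [this]
    exact commutator_le_left_of_le_normalizer ((map_core_le_map_sylow h).trans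
      (map_sylow_le_normalizer_map_residual h))
      (commutator_mem_commutator (mem_subgroupOf.1 hk) hq)

/-- If the image of `Y` is not perfect then `Y = O^p(P)`. -/
theorem residual_eq_Y : pResidualOf p P = Y := by
  haveI hYn := normal_Y hY
  refine le_antisymm (residual_le_Y hY) ?_
  have hYP : Y ≤ P := fun y hy => by
    have h1 : π y ∈ (pResidualOf p P).map π := (map_residual_eq_map_Y h hY hne).ge (mem_map_of_mem π hy)
    have h2 : y ∈ pResidualOf p P ⊔ pCore p G := by
      have h3 := mem_comap.2 h1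
      rwa [comap_map_eq, QuotientGroup.ker_mk'] at h3
    exact sup_le (residual_le h) ((Thompson.pCore_le_sylow S).trans h.le) h2
  haveI : (pResidualOf p P).Normal := by
    refine ⟨fun x hx g => ?_⟩
    have hle : pResidualOf p P ≤ (pResidualOf p P).comap (MulAut.conj g).toMonoidHom :=
      (residual_le_iff h).2 fun z hz hc => mem_residual h
        (hYP (hYn.conj_mem z (residual_le_Y hY (mem_residual h hz hc)) g))
        (show (orderOf ((MulAut.conj g).toMonoidHom z)).Coprime p by
          rwa [orderOf_injective (MulAut.conj g).toMonoidHom (MulAut.conj g).injective z])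
    exact hle hx
  exact Y_le_of_residual_le hY le_rfl

end NotPerfect

end Cfsg.Agent.LocalEvenD.Isolated
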